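import Groth.Agent.BigSiteLib.EtDescSec.FlatLfp
import Groth.Agent.H23.LocNoethTop
import Mathlib.AlgebraicGeometry.Noetherian
import Mathlib.FieldTheory.IsAlgClosed.AlgebraicClosure

/-!
# A finite flat piece of a flat morphism with connected self products

For a flat morphism locally of finite presentation to a locally Noetherian scheme and a point of its image there are an
etale neighbourhood with connected source and a finite flat surjective scheme over it, mapping to the source of the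
morphism, whose self product is connected.
-/

universe u

open CategoryTheory CategoryTheory.Limits AlgebraicGeometry TopologicalSpace

namespace Groth.Agent.TwConstEtLib

set_option backward.isDefEq.respectTransparency.types false

/-- Components of a locally Noetherian scheme are open. -/
theorem locallyConnectedSpace (Z : Scheme.{u}) [IsLocallyNoetherian Z] : LocallyConnectedSpace Z := by
  refine H23.LocNoethTop.locallyConnectedSpace fun z => ?_
  obtain ⟨U, hU, hz, -⟩ := exists_isAffineOpen_mem_and_subset (x := z) (U := (⊤ : Z.Opens)) trivial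
  haveI := IsLocallyNoetherian.component_noetherian ⟨U, hU⟩
  exact ⟨(U : Set Z), U.2.mem_nhds hz, noetherianSpace_of_isAffineOpen U hU⟩

/-- A finite flat scheme over a connected base with a single point in some fibre is connected. -/
theorem preconnectedSpace {Z W : Scheme.{u}} (q : Z ⟶ W) [IsFinite q] [Flat q] [LocallyOfFinitePresentation q]
    [IsLocallyNoetherian Z] [PreconnectedSpace W] {v : W} (h : ∀ a b : Z, q a = v → q b = v → a = b) :
    PreconnectedSpace Z := by
  haveI := locallyConnectedSpace Z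
  have key : ∀ x : Z, ∃ a ∈ connectedComponent x, q a = v := fun x => by
    have himg : IsClopen (q '' connectedComponent x) :=
      ⟨(Scheme.Hom.isClosedMap q) _ isClosed_connectedComponent, (Scheme.Hom.isOpenMap q) _ isOpen_connectedComponent⟩
    have huniv := (isClopen_iff.mp himg).resolve_left
      (Set.Nonempty.ne_empty ⟨q x, x, mem_connectedComponent, rfl⟩)
    exact huniv.ge (Set.mem_univ v)
  have hall : ∀ x y : Z, connectedComponent x = connectedComponent y := fun x y => by
    obtain ⟨a, ha, hav⟩ := key x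
    obtain ⟨b, hb, hbv⟩ := key y
    rw [connectedComponent_eq ha, connectedComponent_eq hb, h a b hav hbv]
  exact ⟨by
    rcases isEmpty_or_nonempty Z with he | ⟨⟨x⟩⟩
    · rw [Set.univ_eq_empty_iff.mpr he]; exact isPreconnected_empty
    · rw [show (Set.univ : Set Z) = connectedComponent x from
        Set.eq_univ_of_forall (fun y => hall x y ▸ mem_connectedComponent) |>.symm]
      exact isPreconnected_connectedComponent⟩

/-- A flat morphism locally of finite presentation has, etale locally near a point of its image, finite flat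
quasi-sections with connected self product. -/
theorem exists_piece {S S' : Scheme.{u}} [IsLocallyNoetherian S] (g : S' ⟶ S) [Flat g]
    [LocallyOfFinitePresentation g] {s : S} (hs : s ∈ Set.range g) :
    ∃ (N Z : Scheme.{u}) (h : N ⟶ S) (q : Z ⟶ N) (a : Z ⟶ S'), Etale h ∧ s ∈ Set.range h ∧ Surjective q ∧
      Flat q ∧ IsFinite q ∧ LocallyOfFinitePresentation q ∧ q ≫ h = a ≫ g ∧
      ConnectedSpace Z ∧ ConnectedSpace ↥(pullback q q) := by
  obtain ⟨x', rfl⟩ := hs
  obtain ⟨O₀, hO₀, hxO₀, -⟩ := exists_isAffineOpen_mem_and_subset (x := g x') (U := (⊤ : S.Opens)) trivial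
  obtain ⟨U₀, hU₀, hxU₀, hU₀O⟩ := exists_isAffineOpen_mem_and_subset (x := x') (U := g ⁻¹ᵁ O₀) hxO₀
  let D : S.Opens := ⟨g '' U₀, (Scheme.Hom.isOpenMap g) _ U₀.2⟩
  obtain ⟨r, hrD, hxr⟩ := hO₀.exists_basicOpen_le (V := D) ⟨g x', ⟨x', hxU₀, rfl⟩⟩ hxO₀
  let O := S.basicOpen r
  have hO : IsAffineOpen O := hO₀.basicOpen r
  let U' : S'.Opens := S'.basicOpen (g.appLE O₀ U₀ hU₀O r)
  have hU' : IsAffineOpen U' := hU₀.basicOpen _
  have hU'eq : U' = U₀ ⊓ g ⁻¹ᵁ O := Scheme.basicOpen_appLE g U₀ O₀ hU₀O r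
  have hle : U' ≤ g ⁻¹ᵁ O := hU'eq.le.trans inf_le_right
  let R : Type u := Γ(S, O)
  let A : Type u := Γ(S', U')
  let φRS := g.appLE O U' hle
  letI : Algebra R A := φRS.hom.toAlgebra
  haveI : Module.Flat R A := RingHom.flat_algebraMap_iff.1 (g.flat_appLE hO hU' hle)
  haveI : Algebra.FinitePresentation R A := RingHom.finitePresentation_algebraMap.1 (g.finitePresentation_appLE hO hU' hle)
  have hSR : Spec.map φRS ≫ hO.fromSpec = hU'.fromSpec ≫ g := IsAffineOpen.SpecMap_appLE_fromSpec g hO hU' hle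
  haveI : Module.FaithfullyFlat R A := by
    refine Module.FaithfullyFlat.of_comap_surjective fun p => ?_
    obtain ⟨y, hy, hyp⟩ := hrD (show hO.fromSpec p ∈ O from hO.range_fromSpec.le ⟨p, rfl⟩)
    have hyU : y ∈ U' := hU'eq.ge ⟨hy, show g y ∈ O from hyp.symm ▸ hO.range_fromSpec.le ⟨p, rfl⟩⟩
    obtain ⟨q, hq⟩ := hU'.range_fromSpec.ge hyU
    refine ⟨q, hO.fromSpec.isOpenEmbedding.injective ?_⟩
    refine Eq.trans ?_ hyp
    rw [← hq]
    exact ((Scheme.Hom.comp_apply _ _ _).symm.trans (congrArg (fun k : Spec Γ(S', U') ⟶ S => k.base q) hSR)).trans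
      (Scheme.Hom.comp_apply _ _ _)
  obtain ⟨T, _, _, hqf, hft, hff, hfp, ⟨χ⟩⟩ := S9432.result R A
  obtain ⟨p₀, hp₀⟩ := hO.range_fromSpec.ge hxr
  let Ω := AlgebraicClosure p₀.asIdeal.ResidueField
  letI : Algebra R Ω := ((algebraMap p₀.asIdeal.ResidueField Ω).comp (algebraMap R p₀.asIdeal.ResidueField)).toAlgebra
  obtain ⟨ψ⟩ := BigSiteLib.DescSec.exists_geometric_lift (R := R) (S := T) (Ω := Ω)
  let ω : Spec (CommRingCat.of Ω) ⟶ Spec (CommRingCat.of T) := Spec.map (CommRingCat.ofHom ψ.toRingHom)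
  let σ : Spec (CommRingCat.of T) ⟶ S' := Spec.map (CommRingCat.ofHom χ.toRingHom) ≫ hU'.fromSpec
  have hσ : σ ≫ g = Spec.map (CommRingCat.ofHom (algebraMap R T)) ≫ hO.fromSpec := by
    simp only [σ, Category.assoc, ← hSR]
    rw [← Category.assoc, ← Spec.map_comp]
    congr 2
    exact CommRingCat.hom_ext χ.comp_algebraMap
  obtain ⟨V₀, Z₀, q₀, a₁, _, _, _, ω₀, hω₀, hq₀⟩ := BigSiteLib.DescSec.exists_finite_piece (X := S) ω hO.fromSpec
  let ν := ω₀ ≫ q₀
  obtain ⟨W, v, Q, hQd, hQtop, hQm⟩ := EtFound.exists_separated_stage q₀ ν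
  let a₀ : {ζ : Spec (CommRingCat.of Ω) ⟶ Z₀ // ζ ≫ q₀ = ν} := ⟨ω₀, rfl⟩
  haveI : Etale W.hom := W.prop
  haveI : Etale V₀.hom := V₀.prop
  let Y : Scheme.{u} := pullback W.hom q₀
  let P : Y.Opens := Q a₀
  have hPclosed : IsClosed (P : Set Y) := by
    have : ((P : Set Y))ᶜ = ⋃ b : {b // b ≠ a₀}, (SetLike.coe (Q b.1) : Set Y) := by
      ext z
      refine ⟨fun hz => ?_, fun hz => ?_⟩
      · obtain ⟨b, hb⟩ := Opens.mem_iSup.1 (show z ∈ (⨆ a, Q a) by rw [hQtop]; trivial)
        exact Set.mem_iUnion.2 ⟨⟨b, fun e => hz (by subst e; exact hb)⟩, hb⟩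
      · obtain ⟨⟨b, hb⟩, hzb⟩ := Set.mem_iUnion.1 hz
        exact fun hzO => Set.disjoint_left.1 (Opens.coe_disjoint.2 (hQd hb)) hzb hzO
    exact isOpen_compl_iff.1 (this ▸ isOpen_iUnion fun b => (Q b.1).2)
  haveI : IsClosedImmersion P.ι := by
    refine .of_isPreimmersion _ ?_
    rw [Scheme.Opens.range_ι]
    exact hPclosed
  let qY : Y ⟶ W.left := pullback.fst W.hom q₀
  haveI : IsFinite qY := MorphismProperty.pullback_fst _ _ inferInstance
  haveI : Flat qY := MorphismProperty.pullback_fst _ _ inferInstance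
  haveI : LocallyOfFinitePresentation qY := MorphismProperty.pullback_fst _ _ inferInstance
  let q : (P : Scheme.{u}) ⟶ W.left := P.ι ≫ qY
  haveI : IsFinite q := inferInstanceAs (IsFinite (P.ι ≫ qY))
  haveI : Flat q := inferInstanceAs (Flat (P.ι ≫ qY))
  haveI : LocallyOfFinitePresentation q := inferInstanceAs (LocallyOfFinitePresentation (P.ι ≫ qY))
  let vl : Spec (CommRingCat.of Ω) ⟶ W.left := v.left
  let l₀ : Spec (CommRingCat.of Ω) ⟶ Y := (EtFound.liftPt q₀ (η := ν) (ξ := ω₀) rfl v).left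
  have hl₀ : Set.range l₀.base ⊆ Set.range P.ι.base := by
    rintro _ ⟨z, rfl⟩
    refine (Scheme.Opens.range_ι P).ge ?_
    rw [Subsingleton.elim z default]
    exact hQm a₀
  let ξ : Spec (CommRingCat.of Ω) ⟶ (P : Scheme.{u}) := IsOpenImmersion.lift P.ι l₀ hl₀
  have hξ : ξ ≫ P.ι = l₀ := IsOpenImmersion.lift_fac _ _ _
  have hξq : ξ ≫ q = vl :=
    (Category.assoc _ _ _).symm.trans ((congrArg (· ≫ qY) hξ).trans (EtFound.liftPt_fst q₀ _ v))
  have huniq : ∀ ζ : Spec (CommRingCat.of Ω) ⟶ (P : Scheme.{u}), ζ ≫ q = vl → ζ = ξ := by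
    intro ζ hζ
    refine (cancel_mono P.ι).1 ?_
    rw [hξ]
    have hb : ((ζ ≫ P.ι) ≫ pullback.snd W.hom q₀) ≫ q₀ = ν := by
      rw [Category.assoc, ← pullback.condition, ← Category.assoc, Category.assoc ζ P.ι]
      refine (congrArg (· ≫ W.hom) hζ).trans ?_
      exact CategoryTheory.Over.w v
    let b : {ζ : Spec (CommRingCat.of Ω) ⟶ Z₀ // ζ ≫ q₀ = ν} := ⟨_, hb⟩
    have e : ζ ≫ P.ι = (EtFound.liftPt q₀ b.2 v).left :=
      pullback.hom_ext (((Category.assoc _ _ _).trans hζ).trans (EtFound.liftPt_fst q₀ _ v).symm) (pullback.lift_snd _ _ _).symm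
    have hbP : ((EtFound.liftPt q₀ b.2 v).left : Spec (CommRingCat.of Ω) ⟶ Y).base (default : Spec (CommRingCat.of Ω)) ∈ P := by
      rw [← e]
      exact (Scheme.Hom.comp_apply _ _ _).symm ▸ Subtype.coe_prop (ζ.base default)
    have : b = a₀ := Classical.byContradiction fun hne => Set.disjoint_left.1 (Opens.coe_disjoint.2 (hQd hne)) (hQm b) hbP
    rw [e, this]
  -- the connected neighbourhood
  haveI : IsLocallyNoetherian ((Functor.fromPUnit S).obj V₀.right) := ‹IsLocallyNoetherian S›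
  haveI : IsLocallyNoetherian V₀.left := LocallyOfFiniteType.isLocallyNoetherian V₀.hom
  haveI : IsLocallyNoetherian W.left := LocallyOfFiniteType.isLocallyNoetherian (W.hom ≫ V₀.hom)
  haveI := locallyConnectedSpace W.left
  let w₀ : W.left := vl.base default
  let N : W.left.Opens := ⟨connectedComponent w₀, isOpen_connectedComponent⟩
  haveI : ConnectedSpace (N : Scheme.{u}) :=
    isConnected_iff_connectedSpace.mp isConnected_connectedComponent
  let ZN : (P : Scheme.{u}).Opens := q ⁻¹ᵁ N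
  let qN : (ZN : Scheme.{u}) ⟶ (N : Scheme.{u}) := q ∣_ N
  haveI : Flat qN := IsZariskiLocalAtTarget.restrict (P := @Flat) inferInstance N
  haveI : IsFinite qN := IsZariskiLocalAtTarget.restrict (P := @IsFinite) inferInstance N
  haveI : LocallyOfFinitePresentation qN := IsZariskiLocalAtTarget.restrict (P := @LocallyOfFinitePresentation) inferInstance N
  have hqN : qN ≫ N.ι = ZN.ι ≫ q := morphismRestrict_ι q N
  have hvN : Set.range vl.base ⊆ Set.range N.ι.base := by
    rintro _ ⟨z, rfl⟩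
    refine (Scheme.Opens.range_ι N).ge ?_
    rw [Subsingleton.elim z default]
    exact mem_connectedComponent
  let vN : Spec (CommRingCat.of Ω) ⟶ (N : Scheme.{u}) := IsOpenImmersion.lift N.ι vl hvN
  have hvN' : vN ≫ N.ι = vl := IsOpenImmersion.lift_fac _ _ _
  have huniqN : ∀ ζ ζ' : Spec (CommRingCat.of Ω) ⟶ (ZN : Scheme.{u}), ζ ≫ qN = vN → ζ' ≫ qN = vN → ζ = ζ' := by
    intro ζ ζ' hζ hζ'
    refine (cancel_mono ZN.ι).1 ((huniq _ ?_).trans (huniq _ ?_).symm)
    · rw [Category.assoc, ← hqN, ← Category.assoc, hζ, hvN']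
    · rw [Category.assoc, ← hqN, ← Category.assoc, hζ', hvN']
  haveI : IsLocallyNoetherian (N : Scheme.{u}) := LocallyOfFiniteType.isLocallyNoetherian N.ι
  haveI : IsLocallyNoetherian (ZN : Scheme.{u}) := LocallyOfFiniteType.isLocallyNoetherian qN
  -- single points over the marked point
  have h1 : ∀ a b : (ZN : Scheme.{u}), qN a = vN.base default → qN b = vN.base default → a = b := by
    intro a b ha hb
    obtain ⟨τ, hτ, rfl⟩ := EtFound.exists_fac_of_integral qN vN a ha
    obtain ⟨τ', hτ', rfl⟩ := EtFound.exists_fac_of_integral qN vN b hb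
    rw [huniqN τ τ' hτ hτ']
  haveI : IsFinite (pullback.fst qN qN) := MorphismProperty.pullback_fst _ _ inferInstance
  haveI : Flat (pullback.fst qN qN) := MorphismProperty.pullback_fst _ _ inferInstance
  haveI : LocallyOfFinitePresentation (pullback.fst qN qN) := MorphismProperty.pullback_fst _ _ inferInstance
  let π : pullback qN qN ⟶ (N : Scheme.{u}) := pullback.fst qN qN ≫ qN
  haveI : IsFinite π := inferInstanceAs (IsFinite (pullback.fst qN qN ≫ qN))
  haveI : Flat π := inferInstanceAs (Flat (pullback.fst qN qN ≫ qN))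
  haveI : LocallyOfFinitePresentation π := inferInstanceAs (LocallyOfFinitePresentation (pullback.fst qN qN ≫ qN))
  haveI : IsLocallyNoetherian (pullback qN qN) := LocallyOfFiniteType.isLocallyNoetherian π
  have h2 : ∀ a b : ↥(pullback qN qN), π a = vN.base default → π b = vN.base default → a = b := by
    intro a b ha hb
    obtain ⟨τ, hτ, rfl⟩ := EtFound.exists_fac_of_integral π vN a ha
    obtain ⟨τ', hτ', rfl⟩ := EtFound.exists_fac_of_integral π vN b hb
    have e : τ = τ' := pullback.hom_ext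
      (huniqN _ _ ((Category.assoc _ _ _).trans hτ) ((Category.assoc _ _ _).trans hτ'))
      (huniqN _ _ ((Category.assoc _ _ _).trans ((congrArg (τ ≫ ·) pullback.condition.symm).trans hτ))
        ((Category.assoc _ _ _).trans ((congrArg (τ' ≫ ·) pullback.condition.symm).trans hτ')))
    rw [e]
  have hξN : Set.range ξ.base ⊆ Set.range ZN.ι.base := by
    rintro _ ⟨z, rfl⟩
    refine (Scheme.Opens.range_ι ZN).ge ?_
    show q (ξ.base z) ∈ N
    rw [Subsingleton.elim z default, ← Scheme.Hom.comp_apply, hξq]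
    exact mem_connectedComponent
  let ξN : Spec (CommRingCat.of Ω) ⟶ (ZN : Scheme.{u}) := IsOpenImmersion.lift ZN.ι ξ hξN
  haveI : Nonempty (ZN : Scheme.{u}) := ⟨ξN.base default⟩
  haveI : Nonempty ↥(pullback qN qN) := ⟨(pullback.lift ξN ξN rfl : _ ⟶ pullback qN qN).base default⟩
  haveI : PreconnectedSpace (ZN : Scheme.{u}) := preconnectedSpace qN h1
  haveI : PreconnectedSpace ↥(pullback qN qN) := preconnectedSpace π h2
  haveI : Surjective qN := ⟨fun z => by
    have himg : IsClopen (qN '' Set.univ) :=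
      ⟨(Scheme.Hom.isClosedMap qN) _ isClosed_univ, (Scheme.Hom.isOpenMap qN) _ isOpen_univ⟩
    obtain ⟨y, -, hy⟩ := ((isClopen_iff.mp himg).resolve_left (Set.univ_nonempty.image _).ne_empty).ge (Set.mem_univ z)
    exact ⟨y, hy⟩⟩
  let a : (ZN : Scheme.{u}) ⟶ S' := ZN.ι ≫ P.ι ≫ pullback.snd W.hom q₀ ≫ a₁ ≫ σ
  refine ⟨N, ZN, N.ι ≫ W.hom ≫ V₀.hom, qN, a, inferInstance, ?_, inferInstance, inferInstance, inferInstance,
    inferInstance, ?_, ⟨inferInstance⟩, ⟨inferInstance⟩⟩
  · refine ⟨vN.base default, ?_⟩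
    have e : vN ≫ N.ι ≫ W.hom ≫ V₀.hom = Spec.map (CommRingCat.ofHom (algebraMap R Ω)) ≫ hO.fromSpec := by
      rw [← Category.assoc, hvN', ← Category.assoc, show vl ≫ W.hom = ν from CategoryTheory.Over.w v]
      simp only [ν, Category.assoc]
      rw [hq₀, ← Category.assoc, hω₀, ← Category.assoc, ← Spec.map_comp, ← CommRingCat.ofHom_comp]
      congr 3
      exact ψ.comp_algebraMap
    rw [← Scheme.Hom.comp_apply, e, Scheme.Hom.comp_apply]
    refine Eq.trans ?_ hp₀
    congr 1
    refine PrimeSpectrum.ext (Ideal.ext fun x => ?_)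
    show algebraMap R Ω x ∈ ((default : Spec (CommRingCat.of Ω)) : PrimeSpectrum Ω).asIdeal ↔ x ∈ p₀.asIdeal
    rw [((Ideal.IsPrime.ne_top inferInstance : ((default : Spec (CommRingCat.of Ω)) : PrimeSpectrum Ω).asIdeal ≠ ⊤) |>
      (Ideal.eq_bot_or_top _).resolve_right), Ideal.mem_bot]
    show algebraMap p₀.asIdeal.ResidueField Ω (algebraMap R p₀.asIdeal.ResidueField x) = 0 ↔ _
    rw [map_eq_zero, Ideal.algebraMap_residueField_eq_zero]
  · simp only [a, Category.assoc]
    rw [hσ, ← hq₀, ← pullback.condition_assoc, ← Category.assoc qN, hqN]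
    simp only [q, qY, Category.assoc]

end Groth.Agent.TwConstEtLib
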