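import Groth.Agent.TwConstEtLib.Const
import Groth.Agent.GrpSchLib.TwConstClopen
import Groth.Agent.UnibEtale.Chart
import Groth.Agent.UnibEtale.Comp
import Mathlib.AlgebraicGeometry.Morphisms.LocalFlatDescent

/-!
# Connected components of twisted constant schemes over geometrically unibranch bases are finite
-/

universe u

open CategoryTheory CategoryTheory.Limits AlgebraicGeometry TopologicalSpace

namespace Groth.Agent.TwConstEtLib

set_option backward.isDefEq.respectTransparency.types false

variable {S : Scheme.{u}}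

/-- A quasi-isotrivial twisted constant scheme is etale. -/
theorem etale_hom (P : Over S) (hP : TwC.IsTwConst TwC.Topology.etale P) : Etale P.hom := by
  choose S' f hf ht hI using hP
  haveI : ∀ t, Etale (f t) := hf
  let U : S → S.Opens := fun t => ⟨Set.range (f t), (f t).isOpenMap.isOpen_range⟩
  refine (IsZariskiLocalAtTarget.iff_of_iSup_eq_top (P := @Etale) U ?_).2 fun t => ?_
  · exact top_le_iff.1 fun x _ => Opens.mem_iSup.2 ⟨x, ht x⟩
  · obtain ⟨I, ⟨e⟩⟩ := hI t
    let f' : S' t ⟶ (U t : Scheme.{u}) := IsOpenImmersion.lift (U t).ι (f t) (by rw [Scheme.Opens.range_ι]; rfl)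
    have hf' : f' ≫ (U t).ι = f t := IsOpenImmersion.lift_fac _ _ _
    haveI : Etale f' := by
      haveI : Etale (f' ≫ (U t).ι) := hf'.symm ▸ hf t
      exact Etale.of_comp f' (U t).ι
    haveI : Surjective f' := ⟨fun x => by
      obtain ⟨y, hy⟩ := x.2
      exact ⟨y, (U t).ι.isOpenEmbedding.injective (by rw [← Scheme.Hom.comp_apply, hf']; exact hy)⟩⟩
    haveI : Etale (Sigma.desc fun _ : I => 𝟙 (S' t)) :=
      IsZariskiLocalAtSource.sigmaDesc (P := @Etale) fun _ => inferInstance
    haveI : Etale (pullback.snd P.hom (f t)) := by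
      have h : e.hom.left ≫ (Sigma.desc fun _ : I => 𝟙 (S' t)) = pullback.snd P.hom (f t) := Over.w e.hom
      rw [← h]
      haveI : IsIso e.hom.left := inferInstanceAs (IsIso ((Over.forget _).map e.hom))
      infer_instance
    have hsq : IsPullback (pullback.snd (P.hom ∣_ U t) f') (pullback.fst (P.hom ∣_ U t) f') f' (P.hom ∣_ U t) :=
      (IsPullback.of_hasPullback _ _).flip
    refine MorphismProperty.of_isPullback_of_descendsAlong
      (Q := (@Surjective ⊓ @Flat ⊓ @LocallyOfFinitePresentation : MorphismProperty Scheme.{u})) hsq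
      ⟨⟨inferInstance, inferInstance⟩, inferInstance⟩ ?_
    have hpaste : IsPullback (pullback.fst (P.hom ∣_ U t) f' ≫ (P.hom ⁻¹ᵁ U t).ι) (pullback.snd (P.hom ∣_ U t) f')
        P.hom (f' ≫ (U t).ι) :=
      (IsPullback.of_hasPullback _ _).paste_horiz (isPullback_morphismRestrict P.hom (U t)).flip
    rw [hf'] at hpaste
    rw [← hpaste.isoPullback_hom_snd]
    infer_instance

/-- Connected components of a quasi-isotrivial twisted constant scheme over a geometrically unibranch locally
Noetherian base are open and finite over the base. -/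
theorem exists_finite_component [IsLocallyNoetherian S] (hS : ∀ s : S, CAlg2.IsGeomUnibranch (S.presheaf.stalk s))
    (P : Over S) (hP : TwC.IsTwConst TwC.Topology.etale P) (x : P.left) :
    ∃ U : P.left.Opens, (U : Set P.left) = connectedComponent x ∧ IsFinite (U.ι ≫ P.hom) := by
  haveI := etale_hom P hP
  haveI : IsLocallyNoetherian P.left := LocallyOfFiniteType.isLocallyNoetherian P.hom
  haveI := locallyConnectedSpace P.left
  haveI := locallyConnectedSpace S
  haveI := UnibEtale.locallyQuasiFinite_of_formallyUnramified P.hom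
  have hu : ∀ z : P.left, (nilradical (P.left.presheaf.stalk z)).IsPrime := fun z => by
    haveI : Etale (Scheme.Opens.ι (⊤ : P.left.Opens) ≫ P.hom) := inferInstance
    have hd : IsDomain (CAlg2.red (P.left.presheaf.stalk z)) :=
      (UnibEtale.stalk_of_etale P.hom z ⊤ trivial (hS _)).1.1.1
    exact (Ideal.Quotient.isDomain_iff_prime _).1 hd
  let Z := irreducibleComponent x
  have hZ : Z ∈ irreducibleComponents ↥P.left := irreducibleComponent_mem_irreducibleComponents x
  have hZo : IsOpen Z := isOpen_iff_mem_nhds.2 fun z hz =>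
    H23.LocNoethTop.exists_nhd_subset_of_unique (H23.FinCondSch.hasNoetherianNhds (X := P.left))
      fun Z' hZ' hzZ' => H23.FinCondSch.unique_component (hu z) hZ' hZ hzZ' hz
  have hZcl : IsClopen Z := ⟨isClosed_of_mem_irreducibleComponents _ hZ, hZo⟩
  have hZx : Z = connectedComponent x :=
    subset_antisymm (isIrreducible_irreducibleComponent.isConnected.isPreconnected.subset_connectedComponent
      mem_irreducibleComponent) (hZcl.connectedComponent_subset mem_irreducibleComponent)
  let U : P.left.Opens := ⟨Z, hZo⟩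
  refine ⟨U, hZx, ?_⟩
  obtain ⟨ξ, hξ⟩ := QuasiSober.sober (isIrreducible_irreducibleComponent (x := x)) isClosed_irreducibleComponent
  let C : S.Opens := ⟨connectedComponent (P.hom x), isOpen_connectedComponent⟩
  haveI : ConnectedSpace (C : Scheme.{u}) := isConnected_iff_connectedSpace.mp isConnected_connectedComponent
  haveI : IsLocallyNoetherian (C : Scheme.{u}) := LocallyOfFiniteType.isLocallyNoetherian C.ι
  have hUC : ∀ z ∈ Z, P.hom z ∈ C := fun z hz => by
    have h1 : P.hom '' Z ⊆ connectedComponent (P.hom x) :=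
      (isIrreducible_irreducibleComponent.isConnected.image _ P.hom.continuous.continuousOn).isPreconnected
        |>.subset_connectedComponent ⟨x, mem_irreducibleComponent, rfl⟩
    exact h1 ⟨z, hz, rfl⟩
  let P' : Over (C : Scheme.{u}) := Red.bc C.ι P
  let l : (U : Scheme.{u}) ⟶ (C : Scheme.{u}) := IsOpenImmersion.lift C.ι (U.ι ≫ P.hom) (by
    rw [Scheme.Opens.range_ι]
    rintro _ ⟨z, rfl⟩
    rw [Scheme.Hom.comp_apply]
    exact hUC _ z.2)
  let z' : (U : Scheme.{u}) ⟶ pullback P.hom C.ι := pullback.lift U.ι l (IsOpenImmersion.lift_fac _ _ _).symm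
  haveI : IsClosedImmersion U.ι := by
    refine .of_isPreimmersion _ ?_
    rw [Scheme.Opens.range_ι]
    exact hZcl.1
  haveI : IsClosedImmersion C.ι := by
    refine .of_isPreimmersion _ ?_
    rw [Scheme.Opens.range_ι]
    exact isClosed_connectedComponent
  have hz' : z' ≫ pullback.fst P.hom C.ι = U.ι := pullback.lift_fst _ _ _
  haveI : IsClosedImmersion (z' ≫ pullback.fst P.hom C.ι) := hz'.symm ▸ inferInstance
  haveI : IsClosedImmersion z' := IsClosedImmersion.of_comp z' (pullback.fst P.hom C.ι)
  haveI : IsOpenImmersion (z' ≫ pullback.fst P.hom C.ι) := hz'.symm ▸ inferInstance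
  haveI : IsOpenImmersion z' := IsOpenImmersion.of_comp z' (pullback.fst P.hom C.ι)
  have hP' : TwC.IsTwConst TwC.Topology.etale P' := by
    intro c
    obtain ⟨S', f, hf, ⟨s', hs'⟩, I, ⟨e⟩⟩ := hP (C.ι c)
    haveI := hf
    haveI : IsLocallyNoetherian S' := LocallyOfFiniteType.isLocallyNoetherian f
    haveI := locallyConnectedSpace S'
    let N : S'.Opens := ⟨connectedComponent s', isOpen_connectedComponent⟩
    haveI : ConnectedSpace (N : Scheme.{u}) := isConnected_iff_connectedSpace.mp isConnected_connectedComponent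
    have hNC : ∀ y ∈ connectedComponent s', f y ∈ C := fun y hy => by
      have h1 : connectedComponent (f s') = connectedComponent (P.hom x) := by
        rw [hs']; exact (connectedComponent_eq c.2).symm
      exact h1.le (f.continuous.image_connectedComponent_subset s' ⟨y, hy, rfl⟩)
    let g : (N : Scheme.{u}) ⟶ (C : Scheme.{u}) := IsOpenImmersion.lift C.ι (N.ι ≫ f) (by
      rw [Scheme.Opens.range_ι]
      rintro _ ⟨y, rfl⟩
      rw [Scheme.Hom.comp_apply]
      exact hNC _ y.2)
    have hg : g ≫ C.ι = N.ι ≫ f := IsOpenImmersion.lift_fac _ _ _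
    haveI : Etale (g ≫ C.ι) := hg.symm ▸ inferInstance
    haveI : Etale g := Etale.of_comp g C.ι
    refine ⟨N, g, inferInstance, ⟨⟨s', mem_connectedComponent⟩, C.ι.isOpenEmbedding.injective ?_⟩, I, ?_⟩
    · rw [← Scheme.Hom.comp_apply, hg]; exact hs'
    · haveI : ConnectedSpace ↥(pullback (𝟙 (N : Scheme.{u})) (𝟙 _)) :=
        (Scheme.forgetToTop.mapIso (asIso (pullback.fst (𝟙 (N : Scheme.{u})) (𝟙 _)))).symm |>
          fun i => (TopCat.homeoOfIso i).surjective.connectedSpace (TopCat.homeoOfIso i).continuous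
      obtain ⟨e'⟩ := exists_iso_of_cover P e (g ≫ C.ι) (𝟙 _) N.ι (by rw [Category.id_comp, hg])
      exact ⟨((Over.pullbackComp g C.ι).app P).symm ≪≫ e'⟩
  have hfin : Set.Finite ((z' ≫ P'.hom).base ⁻¹' {l ⟨ξ, hξ.mem⟩}) := by
    refine (Set.finite_singleton (⟨ξ, hξ.mem⟩ : (U : Scheme.{u}))).subset fun z hz => ?_
    have h1 : l z = l ⟨ξ, hξ.mem⟩ := by
      rw [← hz]
      show _ = (z' ≫ pullback.snd P.hom C.ι) z
      rw [pullback.lift_snd]
    have h2 : P.hom z.1 = P.hom ξ := by
      have h3 := congrArg C.ι h1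
      rwa [← Scheme.Hom.comp_apply, ← Scheme.Hom.comp_apply, IsOpenImmersion.lift_fac, Scheme.Hom.comp_apply,
        Scheme.Hom.comp_apply] at h3
    have hd := P.hom.isDiscrete_preimage_singleton (P.hom ξ)
    haveI : DiscreteTopology ↥(P.hom ⁻¹' {P.hom ξ}) := hd.to_subtype
    have hs : (⟨ξ, rfl⟩ : ↥(P.hom ⁻¹' {P.hom ξ})) ⤳ ⟨z.1, h2⟩ :=
      (Topology.IsInducing.subtypeVal.specializes_iff).1 (hξ.specializes z.2)
    exact Subtype.ext (congrArg Subtype.val hs.eq).symm
  haveI := GrpSchLib.TwConstClopen.main P' hP' z' ⟨_, hfin⟩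
  have hfac : (z' ≫ P'.hom) ≫ C.ι = U.ι ≫ P.hom := by
    show (z' ≫ pullback.snd P.hom C.ι) ≫ C.ι = _
    rw [pullback.lift_snd]
    exact IsOpenImmersion.lift_fac _ _ _
  rw [← hfac]
  infer_instance

end Groth.Agent.TwConstEtLib
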