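import Groth.Prelude.Def_TwC
import Groth.Agent.TwConstEtLib.Piece
import Mathlib.AlgebraicGeometry.Morphisms.FlatDescent
import Mathlib.AlgebraicGeometry.EffectiveEpi

/-!
# Twisted constant schemes for the fppf topology are split etale locally

Over a finite flat cover with connected self product, a splitting of a scheme descends.
-/

universe u

open CategoryTheory CategoryTheory.Limits AlgebraicGeometry TopologicalSpace

namespace Groth.Agent.TwConstEtLib

set_option backward.isDefEq.respectTransparency.types false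

variable {S : Scheme.{u}} (X : Over S) {S' : Scheme.{u}} {g : S' ⟶ S} {I : Type u}

/-- The section of index `m` of a split scheme. -/
noncomputable def sect (e : Red.bc g X ≅ TwC.const S' I) (m : I) : S' ⟶ X.left :=
  Sigma.ι (fun _ : I => S') m ≫ e.inv.left ≫ pullback.fst X.hom g

variable (e : Red.bc g X ≅ TwC.const S' I)

theorem sect_hom (m : I) : sect X e m ≫ X.hom = g := by
  have h : e.inv.left ≫ pullback.snd X.hom g = Sigma.desc fun _ : I => 𝟙 S' := Over.w e.inv
  simp only [sect, Category.assoc, pullback.condition]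
  rw [← Category.assoc e.inv.left, h, ← Category.assoc, Sigma.ι_desc, Category.id_comp]

theorem inv_snd (m : I) : Sigma.ι (fun _ : I => S') m ≫ e.inv.left ≫ pullback.snd X.hom g = 𝟙 S' := by
  have h : e.inv.left ≫ pullback.snd X.hom g = Sigma.desc fun _ : I => 𝟙 S' := Over.w e.inv
  rw [h, Sigma.ι_desc]

/-- A point of a split scheme with connected source lies on one of the sections. -/
theorem exists_sect {T : Scheme.{u}} [ConnectedSpace T] (t : T ⟶ S') (x : T ⟶ X.left) (h : x ≫ X.hom = t ≫ g) :
    ∃ m, x = t ≫ sect X e m := by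
  let l : T ⟶ ∐ fun _ : I => S' := pullback.lift x t h ≫ e.hom.left
  obtain ⟨t₀⟩ := ‹ConnectedSpace T›.toNonempty
  obtain ⟨⟨m, y⟩, hy⟩ := (sigmaMk fun _ : I => S').surjective (l t₀)
  let U : Set T := l ⁻¹' (Set.range (Sigma.ι (fun _ : I => S') m))
  have hUo : IsOpen U := (Sigma.ι (fun _ : I => S') m).isOpenEmbedding.isOpen_range.preimage l.continuous
  have hUc : IsClosed U := by
    have : Uᶜ = ⋃ n : {n // n ≠ m}, l ⁻¹' (Set.range (Sigma.ι (fun _ : I => S') n.1)) := by
      ext z
      refine ⟨fun hz => ?_, fun hz => ?_⟩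
      · obtain ⟨⟨n, y'⟩, hy'⟩ := (sigmaMk fun _ : I => S').surjective (l z)
        rw [sigmaMk_mk] at hy'
        exact Set.mem_iUnion.2 ⟨⟨n, fun hn => hz (by subst hn; exact ⟨y', hy'⟩)⟩, y', hy'⟩
      · obtain ⟨⟨n, hn⟩, y', hy'⟩ := Set.mem_iUnion.1 hz
        rintro ⟨y'', hy''⟩
        exact hn ((Sigma.mk.inj ((sigmaι_eq_iff _ _ _ _ _).mp (hy'.trans hy''.symm))).1)
    exact isOpen_compl_iff.1 (this ▸ isOpen_iUnion fun n =>
      (Sigma.ι (fun _ : I => S') n.1).isOpenEmbedding.isOpen_range.preimage l.continuous)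
  have hU : U = Set.univ := (isClopen_iff.mp ⟨hUc, hUo⟩).resolve_left
    (Set.Nonempty.ne_empty ⟨t₀, y, by rw [← hy, sigmaMk_mk]⟩)
  have hl : Set.range l ⊆ Set.range (Sigma.ι (fun _ : I => S') m) := by
    rintro _ ⟨z, rfl⟩
    exact hU.ge (Set.mem_univ z)
  refine ⟨m, ?_⟩
  have h0 : IsOpenImmersion.lift _ l hl ≫ Sigma.ι (fun _ : I => S') m = l := IsOpenImmersion.lift_fac _ _ _
  have h2 : pullback.lift x t h = IsOpenImmersion.lift _ l hl ≫ Sigma.ι (fun _ : I => S') m ≫ e.inv.left := by
    rw [← Category.assoc, h0]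
    simp only [l, Category.assoc]
    rw [← Over.comp_left, e.hom_inv_id]
    simp
  have ht : t = IsOpenImmersion.lift _ l hl := by
    have := congrArg (· ≫ pullback.snd X.hom g) h2
    simp only [Category.assoc, pullback.lift_snd] at this
    rw [inv_snd, Category.comp_id] at this
    exact this
  have := congrArg (· ≫ pullback.fst X.hom g) h2
  simp only [Category.assoc, pullback.lift_fst] at this
  rw [← ht] at this
  exact this

/-- Sections of different index do not meet. -/
theorem sect_injective {T : Scheme.{u}} [Nonempty T] (t : T ⟶ S') {m n : I}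
    (h : t ≫ sect X e m = t ≫ sect X e n) : m = n := by
  have h2 : t ≫ Sigma.ι (fun _ : I => S') m ≫ e.inv.left = t ≫ Sigma.ι (fun _ : I => S') n ≫ e.inv.left := by
    refine pullback.hom_ext ?_ ?_
    · simpa only [sect, Category.assoc] using h
    · simp only [Category.assoc, inv_snd]
  have h3 : t ≫ Sigma.ι (fun _ : I => S') m = t ≫ Sigma.ι (fun _ : I => S') n := by
    have h' := congrArg (· ≫ e.hom.left) h2
    have he : e.inv.left ≫ e.hom.left = 𝟙 (∐ fun _ : I => S') := by rw [← Over.comp_left, e.inv_hom_id]; rfl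
    simpa only [Category.assoc, he, Category.comp_id] using h'
  obtain ⟨t₀⟩ := ‹Nonempty T›
  have h4 := congrArg (fun k => k.base t₀) h3
  simp only [Scheme.Hom.comp_apply] at h4
  exact (Sigma.mk.inj ((sigmaι_eq_iff _ _ _ _ _).mp h4)).1

include e in
/-- A splitting descends along a finite flat cover with connected self product. -/
theorem exists_iso_of_cover {N Z : Scheme.{u}} (h : N ⟶ S) (q : Z ⟶ N) (a : Z ⟶ S') [Surjective q] [Flat q]
    [QuasiCompact q] (w : q ≫ h = a ≫ g) [ConnectedSpace Z] [ConnectedSpace ↥(pullback q q)] :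
    Nonempty (Red.bc h X ≅ TwC.const N I) := by
  have key : ∀ m, pullback.fst q q ≫ a ≫ sect X e m = pullback.snd q q ≫ a ≫ sect X e m := by
    intro m
    have hh : (pullback.snd q q ≫ a ≫ sect X e m) ≫ X.hom = (pullback.fst q q ≫ a) ≫ g := by
      simp only [Category.assoc, sect_hom, ← w, pullback.condition_assoc]
    obtain ⟨n, hn⟩ := exists_sect X e (pullback.fst q q ≫ a) _ hh
    have hd : a ≫ sect X e m = a ≫ sect X e n := by
      have := congrArg (pullback.lift (𝟙 Z) (𝟙 Z) rfl ≫ ·) hn
      simpa only [← Category.assoc, pullback.lift_fst, pullback.lift_snd, Category.id_comp] using this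
    rw [hn, ← sect_injective X e a hd]
    simp only [Category.assoc]
  haveI : EffectiveEpi q := inferInstance
  let σ : I → (N ⟶ X.left) := fun m => EffectiveEpi.desc q (a ≫ sect X e m) (fun g₁ g₂ h12 => by
    have := congrArg (pullback.lift g₁ g₂ h12 ≫ ·) (key m)
    simpa only [← Category.assoc, pullback.lift_fst, pullback.lift_snd] using this)
  have hσq : ∀ m, q ≫ σ m = a ≫ sect X e m := fun m => EffectiveEpi.fac q _ _
  have hσ : ∀ m, σ m ≫ X.hom = h := fun m => by
    rw [← cancel_epi q, ← Category.assoc, hσq, Category.assoc, sect_hom, w]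
  let y : I → (N ⟶ pullback X.hom h) := fun m =>
    pullback.lift (σ m) (𝟙 N) (by rw [Category.id_comp]; exact hσ m)
  let π : pullback X.hom (q ≫ h) ⟶ pullback X.hom h :=
    pullback.lift (pullback.fst _ _) (pullback.snd _ _ ≫ q) (by rw [Category.assoc]; exact pullback.condition)
  let s : I → (Z ⟶ pullback X.hom (q ≫ h)) := fun m =>
    pullback.lift (a ≫ sect X e m) (𝟙 Z) (by rw [Category.assoc, sect_hom, Category.id_comp, w])
  have hsq : IsPullback (pullback.snd X.hom (q ≫ h)) π q (pullback.snd X.hom h) := by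
    refine IsPullback.of_bot (v₂₁ := pullback.fst X.hom h) (v₂₂ := h) (h₃₁ := X.hom) ?_ ?_
      (IsPullback.of_hasPullback X.hom h).flip
    · rw [pullback.lift_fst]
      exact (IsPullback.of_hasPullback X.hom (q ≫ h)).flip
    · exact (pullback.lift_snd _ _ _).symm
  have hsy : ∀ m, IsPullback (s m) q π (y m) := fun m => by
    refine IsPullback.of_right ?_ ?_ hsq
    · rw [pullback.lift_snd, pullback.lift_snd]
      exact IsPullback.id_horiz q
    · refine pullback.hom_ext ?_ ?_
      · simp only [π, s, y, Category.assoc, pullback.lift_fst, hσq]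
      · simp only [π, s, y, Category.assoc, pullback.lift_snd]
        rw [← Category.assoc, pullback.lift_snd, Category.id_comp, Category.comp_id]
  have hQ : (@Surjective ⊓ @Flat ⊓ @QuasiCompact : MorphismProperty Scheme.{u}) q :=
    ⟨⟨inferInstance, inferInstance⟩, inferInstance⟩
  have hπ : (@Surjective ⊓ @Flat ⊓ @QuasiCompact : MorphismProperty Scheme.{u}) π :=
    MorphismProperty.of_isPullback hsq hQ
  haveI : Surjective π := hπ.1.1
  let ψ : pullback X.hom (q ≫ h) ⟶ pullback X.hom g :=
    pullback.lift (pullback.fst _ _) (pullback.snd _ _ ≫ a) (by rw [Category.assoc, ← w]; exact pullback.condition)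
  have hsψ : ∀ m, s m ≫ ψ = a ≫ Sigma.ι (fun _ : I => S') m ≫ e.inv.left := fun m => by
    refine pullback.hom_ext ?_ ?_
    · simp only [ψ, s, sect, Category.assoc, pullback.lift_fst]
    · simp only [ψ, s, Category.assoc, pullback.lift_snd, pullback.lift_snd_assoc, inv_snd, Category.id_comp,
        Category.comp_id]
  have hcover : ∀ z : ↥(pullback X.hom (q ≫ h)), ∃ m, z ∈ Set.range (s m) := fun z => by
    let x₀ := (pullback X.hom (q ≫ h)).fromSpecResidueField z
    obtain ⟨m, hm⟩ := exists_sect X e ((x₀ ≫ pullback.snd _ _) ≫ a) (x₀ ≫ pullback.fst _ _) (by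
      simp only [Category.assoc, ← w]
      rw [pullback.condition])
    have hx₀ : x₀ = (x₀ ≫ pullback.snd _ _) ≫ s m := by
      refine pullback.hom_ext ?_ ?_
      · rw [hm]; simp only [s, Category.assoc, pullback.lift_fst]
      · simp only [s, Category.assoc, pullback.lift_snd, Category.comp_id]
    obtain ⟨p, hp⟩ := (Scheme.range_fromSpecResidueField z).ge rfl
    refine ⟨m, (x₀ ≫ pullback.snd _ _) p, ?_⟩
    rw [← Scheme.Hom.comp_apply, ← hx₀]
    exact hp
  have hdisj : ∀ m n z z', s m z = s n z' → m = n := fun m n z z' hz => by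
    have h1 := congrArg ψ hz
    rw [← Scheme.Hom.comp_apply, ← Scheme.Hom.comp_apply, hsψ, hsψ] at h1
    simp only [Scheme.Hom.comp_apply] at h1
    haveI : IsIso e.inv.left := inferInstanceAs (IsIso ((Over.forget _).map e.inv))
    exact (Sigma.mk.inj ((sigmaι_eq_iff _ _ _ _ _).mp (e.inv.left.isOpenEmbedding.injective h1))).1
  have hrange : ∀ m, Set.range (s m) = π ⁻¹' Set.range (y m) := fun m => by
    ext z
    refine ⟨fun ⟨z', hz'⟩ => ⟨q z', ?_⟩, fun ⟨n, hn⟩ => ?_⟩
    · rw [← hz', ← Scheme.Hom.comp_apply, ← Scheme.Hom.comp_apply, (hsy m).w]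
    · obtain ⟨p, hp, -⟩ := Scheme.exists_preimage_of_isPullback (hsy m) z n hn.symm
      exact ⟨p, hp⟩
  haveI : ∀ m, IsOpenImmersion (y m) := fun m => by
    refine MorphismProperty.of_isPullback_of_descendsAlong
      (Q := (@Surjective ⊓ @Flat ⊓ @QuasiCompact : MorphismProperty Scheme.{u})) (hsy m) hπ ?_
    have hψ : IsPullback (s m) a ψ (Sigma.ι (fun _ : I => S') m ≫ e.inv.left) := by
      refine IsPullback.of_right (h₁₂ := pullback.snd X.hom (q ≫ h)) (h₂₂ := pullback.snd X.hom g) (v₁₃ := a) ?_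
        (hsψ m) ?_
      · rw [pullback.lift_snd, Category.assoc, inv_snd]
        exact IsPullback.id_horiz a
      · refine IsPullback.of_bot (v₂₁ := pullback.fst X.hom g) (v₂₂ := g) (h₃₁ := X.hom) ?_ ?_
          (IsPullback.of_hasPullback X.hom g).flip
        · rw [pullback.lift_fst, ← w]
          exact (IsPullback.of_hasPullback X.hom (q ≫ h)).flip
        · exact (pullback.lift_snd _ _ _).symm
    haveI : IsIso e.inv.left := inferInstanceAs (IsIso ((Over.forget _).map e.inv))
    exact MorphismProperty.of_isPullback hψ.flip (inferInstanceAs (IsOpenImmersion (Sigma.ι (fun _ : I => S') m ≫ e.inv.left)))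
  let c : (∐ fun _ : I => N) ⟶ pullback X.hom h := Sigma.desc y
  haveI : IsOpenImmersion c := isOpenImmersion_sigmaDesc _ _ fun m n hmn => by
    refine Set.disjoint_left.2 fun p hp hp' => hmn ?_
    obtain ⟨z, rfl⟩ := π.surjective p
    obtain ⟨z₁, hz₁⟩ := (hrange m).ge hp
    obtain ⟨z₂, hz₂⟩ := (hrange n).ge hp'
    exact hdisj m n z₁ z₂ (hz₁.trans hz₂.symm)
  haveI : Surjective c := ⟨fun p => by
    obtain ⟨z, rfl⟩ := π.surjective p
    obtain ⟨m, hm⟩ := hcover z
    obtain ⟨n, hn⟩ := (hrange m).le hm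
    exact ⟨Sigma.ι (fun _ : I => N) m n, by rw [← Scheme.Hom.comp_apply, Sigma.ι_desc]; exact hn⟩⟩
  haveI : IsIso c := (isIso_iff_isOpenImmersion_and_surjective c).2 ⟨inferInstance, inferInstance⟩
  refine ⟨(Over.isoMk (asIso c) (Sigma.hom_ext _ _ fun m => ?_)).symm⟩
  show Sigma.ι (fun _ : I => N) m ≫ c ≫ pullback.snd X.hom h = Sigma.ι (fun _ : I => N) m ≫ Sigma.desc fun _ : I => 𝟙 N
  rw [Sigma.ι_desc, ← Category.assoc, Sigma.ι_desc, pullback.lift_snd]

/-- Over a locally Noetherian base, twisted constant for the fppf topology implies quasi-isotrivial. -/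
theorem isTwConst_etale [IsLocallyNoetherian S] (hX : TwC.IsTwConst TwC.Topology.fppf X) :
    TwC.IsTwConst TwC.Topology.etale X := by
  intro s
  obtain ⟨S', g, _, _, hs, I, ⟨e⟩⟩ := hX s
  obtain ⟨N, Z, h, q, a, hh, hsh, _, _, _, _, w, _, _⟩ := exists_piece g hs
  exact ⟨N, h, hh, hsh, I, exists_iso_of_cover X e h q a w⟩

end Groth.Agent.TwConstEtLib
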